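import Groth.Agent.IndExt72.Exact
import Groth.Agent.QCGroth72.Separator
import Groth.Agent.QC70.CohOps
import Groth.Agent.Props58.LocFree.FP
import Groth.Agent.S4342
import Groth.Agent.S2214
import Mathlib.CategoryTheory.Presentable.StrongGenerator
import Mathlib.CategoryTheory.Presentable.Dense
import Mathlib.CategoryTheory.ObjectProperty.Kernels
import Mathlib.CategoryTheory.ObjectProperty.FiniteProducts

/-!
Coherent modules on a Noetherian scheme generate the quasi-coherent ones under filtered colimits.
-/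

set_option autoImplicit false
set_option backward.isDefEq.respectTransparency.types false
set_option linter.style.haveILetI false
set_option linter.unusedSectionVars false

noncomputable section

universe u v' u'

open CategoryTheory Limits AlgebraicGeometry TopologicalSpace Opposite
open Groth.Agent.QC70

attribute [local instance] Cardinal.fact_isRegular_aleph0

namespace Groth.Agent.IndExt72

variable {C : Type u'} [Category.{v'} C] [HasZeroMorphisms C] {P : ObjectProperty C}
  {B : Type*} [Category B] [HasZeroMorphisms B] (G : C ⥤ B)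

/-- Preservation of kernels of morphisms in `P` may be checked on `P`. -/
theorem preservesLimit_of_ι [HasKernels C] [P.IsClosedUnderKernels]
    (hG : ∀ ⦃M N : P.FullSubcategory⦄ (h : M ⟶ N), PreservesLimit (parallelPair h 0) (P.ι ⋙ G))
    ⦃M N : C⦄ (h : M ⟶ N) (hM : P M) (hN : P N) : PreservesLimit (parallelPair h 0) G := by
  let h' : (⟨M, hM⟩ : P.FullSubcategory) ⟶ ⟨N, hN⟩ := ObjectProperty.homMk h
  have := P.preservesKernels_ι h'
  have := hG h'
  let c := limit.cone (parallelPair h' 0)
  let e : parallelPair h' 0 ⋙ P.ι ≅ parallelPair h 0 :=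
    parallelPair.ext (Iso.refl _) (Iso.refl _) ((Category.comp_id _).trans (Category.id_comp h).symm)
      ((Category.comp_id _).trans (Category.id_comp (0 : M ⟶ N)).symm)
  have : PreservesLimit (parallelPair h' 0 ⋙ P.ι) G :=
    preservesLimit_of_preserves_limit_cone (isLimitOfPreserves P.ι (limit.isLimit _))
      (isLimitOfPreserves (P.ι ⋙ G) (limit.isLimit (parallelPair h' 0)))
  exact preservesLimit_of_iso_diagram G e

/-- Preservation of cokernels of morphisms in `P` may be checked on `P`. -/
theorem preservesColimit_of_ι [HasCokernels C] [P.IsClosedUnderCokernels]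
    (hG : ∀ ⦃M N : P.FullSubcategory⦄ (h : M ⟶ N), PreservesColimit (parallelPair h 0) (P.ι ⋙ G))
    ⦃M N : C⦄ (h : M ⟶ N) (hM : P M) (hN : P N) : PreservesColimit (parallelPair h 0) G := by
  let h' : (⟨M, hM⟩ : P.FullSubcategory) ⟶ ⟨N, hN⟩ := ObjectProperty.homMk h
  have := P.preservesCokernels_ι h'
  have := hG h'
  let e : parallelPair h' 0 ⋙ P.ι ≅ parallelPair h 0 :=
    parallelPair.ext (Iso.refl _) (Iso.refl _) ((Category.comp_id _).trans (Category.id_comp h).symm)
      ((Category.comp_id _).trans (Category.id_comp (0 : M ⟶ N)).symm)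
  have : PreservesColimit (parallelPair h' 0 ⋙ P.ι) G :=
    preservesColimit_of_preserves_colimit_cocone (isColimitOfPreserves P.ι (colimit.isColimit _))
      (isColimitOfPreserves (P.ι ⋙ G) (colimit.isColimit (parallelPair h' 0)))
  exact preservesColimit_of_iso_diagram G e

end Groth.Agent.IndExt72

namespace Groth.Agent.QCCohInd72

variable (X : Scheme.{u})

/-- The coherent objects among quasi-coherent modules. -/
def cohP : ObjectProperty (QCohCat.QCoh X) := fun M => Coh.IsCoh M.obj

instance : (cohP X).IsClosedUnderIsomorphisms :=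
  ⟨fun e h => QC70.isCoh_of_iso ((QCohCat.isQCoh X).ι.mapIso e) h⟩

instance [IsLocallyNoetherian X] : (cohP X).IsClosedUnderKernels :=
  ⟨fun M h => by
    cases h with
    | of_isLimit f k hk hf =>
      haveI := (QCohCat.isQCoh X).preservesKernels_ι f
      exact QC70.isCoh_of_iso ((kernelIsKernel f.hom).conePointUniqueUpToIso
        (KernelFork.mapIsLimit k hk (QCohCat.isQCoh X).ι)) (QC70.isCoh_kernel f.hom hf.1 hf.2.1)⟩

instance : (cohP X).IsClosedUnderCokernels :=
  ⟨fun M h => by
    cases h with
    | of_isColimit f k hk hf =>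
      haveI := (QCohCat.isQCoh X).preservesCokernels_ι f
      exact QC70.isCoh_of_iso ((cokernelIsCokernel f.hom).coconePointUniqueUpToIso
        (CokernelCofork.mapIsColimit k hk (QCohCat.isQCoh X).ι))
          (QC70.isCoh_cokernel f.hom hf.1.1 hf.2)⟩

instance : (cohP X).IsClosedUnderFiniteProducts := by
  refine ObjectProperty.IsClosedUnderFiniteProducts.of_isClosedUnderLimitsOfShape.{0}
    fun J _ => ?_
  refine ⟨fun M ⟨p⟩ => ?_⟩
  classical
  cases nonempty_fintype J
  let f : J → X.Modules := fun j => (p.diag.obj ⟨j⟩).obj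
  obtain ⟨n, ⟨eJ⟩⟩ := Finite.exists_equiv_fin J
  have h : Coh.IsCoh (⨁ f) :=
    QC70.isCoh_of_iso (biproduct.reindex eJ.symm f)
      (QC70.isCoh_biproduct (fun i => f (eJ.symm i)) fun i => p.prop_diag_obj ⟨eJ.symm i⟩)
  have : PreservesLimit p.diag (QCohCat.isQCoh X).ι := inferInstance
  refine QC70.isCoh_of_iso (biproduct.isoProduct f ≪≫
    (limit.isLimit (Discrete.functor f)).conePointsIsoOfNatIso
      (isLimitOfPreserves (QCohCat.isQCoh X).ι p.isLimit) (Discrete.natIso fun ⟨j⟩ => Iso.refl _)) h

variable {X}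

theorem isFP_of_isCoh [IsLocallyNoetherian X] {M : X.Modules} (h : Coh.IsCoh M) : CohB1.IsFP M := by
  haveI := h.1
  haveI : M.IsFiniteType := h.2
  refine Props58.LocFree.isFP_of_sections M (fun W : X.affineOpens => W.1)
    (iSup_affineOpens_eq_top X) (fun W => W.2) fun W => ?_
  haveI := QC70.finite_sections_of_isFiniteType M W.2
  haveI : IsNoetherianRing Γ(X, W.1) := IsLocallyNoetherian.component_noetherian W
  exact Module.finitePresentation_of_finite _ _

theorem isCoh_of_isFinitelyPresentable [IsNoetherian X] (M : QCohCat.QCoh X)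
    [IsFinitelyPresentable.{u} M] : cohP X M := by
  haveI : CohB1.IsFP M.obj := (Groth.Agent.S2214.result X M).mp inferInstance
  exact ⟨M.property, inferInstance⟩

theorem isFinitelyPresentable_of_cohP [IsNoetherian X] {M : QCohCat.QCoh X} (h : cohP X M) :
    IsFinitelyPresentable.{u} M := (Groth.Agent.S2214.result X M).mpr (isFP_of_isCoh h)

/-- The small separating family of coherent objects. -/
def cohFamily (p : { p : QCGroth72.SepIdx X // Coh.IsCoh (QCGroth72.sepFamily p).obj }) :
    QCohCat.QCoh X := QCGroth72.sepFamily p.1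

theorem exists_cohFamily_iso (G : X.Modules) (hG : Coh.IsCoh G) :
    ∃ p, Nonempty ((cohFamily (X := X) p).obj ≅ G) := by
  classical
  haveI := hG.1
  haveI : G.IsFiniteType := hG.2
  have hinf : ∀ U : X.affineOpens, ∃ g : QCGroth72.GenIdx U → Γ(G, U.1),
      Submodule.span Γ(X, U.1) (Set.range g) = ⊤ := by
    intro U
    obtain ⟨S, hS⟩ := (QC70.finite_sections_of_isFiniteType G U.2).fg_top
    obtain ⟨n, e⟩ : ∃ n, Nonempty (S ≃ Fin n) := ⟨_, ⟨S.equivFin⟩⟩
    let ι : ℕ → QCGroth72.GenIdx U := fun n => ⟨1, .inr (.inl ⟨U, PUnit.unit, n⟩)⟩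
    let r : QCGroth72.GenIdx U → ℕ := fun j =>
      match j with
      | ⟨_ + 1, .inr (.inl ⟨_, _, m⟩)⟩ => m
      | _ => 0
    have hι : Function.Injective ι := fun a b h => congrArg r h
    let g : QCGroth72.GenIdx U → Γ(G, U.1) :=
      Function.extend (fun s : S => ι (e.some s)) (fun s => s.1) 0
    refine ⟨g, eq_top_iff.mpr (hS ▸ Submodule.span_le.mpr fun s hs => Submodule.subset_span
      ⟨ι (e.some ⟨s, hs⟩), ?_⟩)⟩
    exact (hι.comp (Fin.val_injective.comp e.some.injective)).extend_apply (fun s : S => s.1) 0 ⟨s, hs⟩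
  choose g hg using hinf
  obtain ⟨p, ⟨e⟩⟩ := QCGroth72.exists_iso_sepFamily G g hg
  exact ⟨⟨p, QC70.isCoh_of_iso e.symm hG⟩, ⟨e⟩⟩

theorem isSeparating_cohFamily [IsNoetherian X] :
    (ObjectProperty.ofObj (cohFamily (X := X))).IsSeparating := by
  intro M N f g h
  have : M.obj.IsQuasicoherent := M.property
  have : ((QCohCat.isQCoh X).ι.obj M).IsQuasicoherent := M.property
  refine (QCohCat.isQCoh X).ι.map_injective (sub_eq_zero.mp
    (QCFilt72.hom_eq_zero_of_sections _ (fun U : X.affineOpens => U.1) (fun U => U.2)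
      (iSup_affineOpens_eq_top X) fun U s => ?_))
  obtain ⟨G', i, _, hq, hft, t, ht⟩ := Groth.Agent.S4342.result
    (fun x => ⟨⊤, trivial, (inferInstance : NoetherianSpace (Set.univ : Set X))⟩) M.obj U s
  obtain ⟨p, ⟨e⟩⟩ := exists_cohFamily_iso G' ⟨hq, hft⟩
  have hh := congrArg (fun ψ => Scheme.Modules.Hom.app ψ U.1 (e.inv.app U.1 t))
    (congrArg (fun k => k.hom) (h _ ⟨p⟩ (ObjectProperty.homMk (e.hom ≫ i))))
  simp only [ObjectProperty.FullSubcategory.comp_hom, ObjectProperty.homMk_hom,
    ZClos93.app_comp_apply] at hh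
  rw [← ZClos93.app_comp_apply e.inv e.hom, e.inv_hom_id, Scheme.Modules.Hom.id_app] at hh
  change f.hom.app U.1 (i.app U.1 t) = g.hom.app U.1 (i.app U.1 t) at hh
  have ht' : i.app U.1 t = s := ht
  rw [ht'] at hh
  change f.hom.app U.1 s - g.hom.app U.1 s = 0
  rw [hh, sub_self]

/-- Coherent modules generate under filtered colimits. -/
theorem gen_cohP (X : Scheme.{u}) [IsNoetherian X] : IndExt72.Gen (cohP X) := by
  refine ⟨fun M h => isFinitelyPresentable_of_cohP h, fun M => ?_⟩
  have hsep := isSeparating_cohFamily (X := X)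
  have hQ : (ObjectProperty.ofObj (cohFamily (X := X))).IsStrongGenerator := by
    rw [ObjectProperty.isStrongGenerator_iff]
    refine ⟨hsep, fun A B i _ h => ?_⟩
    have h0 : cokernel.π i = 0 := hsep _ _ fun G hG g => by
      obtain ⟨g', hg'⟩ := h G hG g
      rw [comp_zero, ← hg', Category.assoc, cokernel.condition, comp_zero]
    haveI : Epi i := Preadditive.epi_of_isZero_cokernel i (IsZero.of_epi_eq_zero _ h0)
    exact isIso_of_mono_of_epi i
  have hQ' : ObjectProperty.ofObj (cohFamily (X := X)) ≤
      isCardinalPresentable (QCohCat.QCoh X) Cardinal.aleph0 := by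
    rintro _ ⟨p⟩
    exact isFinitelyPresentable_of_cohP (M := cohFamily p) p.2
  have : IsCardinalLocallyPresentable (QCohCat.QCoh X) Cardinal.aleph0.{u} :=
    (IsCardinalLocallyPresentable.iff_exists_isStrongGenerator _ _).mpr
      ⟨_, inferInstance, hQ, hQ'⟩
  obtain ⟨J, _, _, ⟨p⟩⟩ := (isCardinalFilteredGenerator_isCardinalPresentable
    (QCohCat.QCoh X) Cardinal.aleph0.{u}).exists_colimitsOfShape M
  refine ⟨J, inferInstance, isFiltered_of_isCardinalFiltered J Cardinal.aleph0, ⟨p.ofLE ?_⟩⟩
  intro N hN
  have : IsFinitelyPresentable.{u} N := hN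
  exact isCoh_of_isFinitelyPresentable N

/-- The same category, as a full subcategory of all modules. -/
def cohEquiv (X : Scheme.{u}) :
    ObjectProperty.FullSubcategory (fun M : X.Modules => Coh.IsCoh M) ≌ (cohP X).FullSubcategory where
  functor :=
    { obj := fun M => ⟨⟨M.obj, M.property.1⟩, M.property⟩
      map := fun f => ObjectProperty.homMk (ObjectProperty.homMk f.hom) }
  inverse :=
    { obj := fun M => ⟨M.obj.obj, M.property⟩
      map := fun f => ObjectProperty.homMk f.hom.hom }
  unitIso := Iso.refl _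
  counitIso := Iso.refl _

instance : (cohEquiv X).functor.Additive where
instance : (cohEquiv X).inverse.Additive where

end Groth.Agent.QCCohInd72
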